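import Groth.Agent.PicLiftLib.CIPic
import Groth.Agent.PurityGlueLib.Equiv
import Groth.Agent.S0247
import Groth.Agent.S0262
import Groth.Agent.S9476

/-! Purity for complete intersections of dimension at least three. -/

set_option autoImplicit false
set_option linter.style.haveILetI false
universe u

open CategoryTheory CategoryTheory.Limits AlgebraicGeometry IsLocalRing RingTheory.Sequence CommAlgDim
open PicLiftLib

noncomputable section

namespace PurityCILib

/-- Extension along any open immersion onto the punctured spectrum. -/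
theorem exists_extension_of_range {B : Type u} [CommRing B] [IsLocalRing B] (hB : FEt.PurityHolds B)
    {U' : Scheme.{u}} (s : U' ⟶ Spec (CommRingCat.of B)) [IsOpenImmersion s]
    (hs : Set.range s = Set.range (FEt.puncturedSpec B).ι) (V : FEt.Cat U') :
    ∃ Y : FEt.Cat (Spec (CommRingCat.of B)), Nonempty ((FEt.restrict s).obj Y ≅ V) := by
  let χ := IsOpenImmersion.isoOfRangeEq (FEt.puncturedSpec B).ι s hs.symm
  haveI : (FEt.restrict (FEt.puncturedSpec B).ι).EssSurj := hB
  let X : FEt.Cat (FEt.puncturedSpec B : Scheme.{u}) := (FEt.restrict χ.hom).obj V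
  have hk := PurityGlueLib.isPullback_of_iso ((FEt.restrict (FEt.puncturedSpec B).ι).objObjPreimageIso X)
  refine ⟨(FEt.restrict (FEt.puncturedSpec B).ι).objPreimage X, ?_⟩
  have h2 : IsPullback (inv (pullback.fst V.hom χ.hom)) V.hom (pullback.snd V.hom χ.hom) χ.inv :=
    IsPullback.of_horiz_isIso ⟨by rw [IsIso.inv_comp_eq, pullback.condition_assoc, χ.hom_inv_id, Category.comp_id]⟩
  have h3 := h2.paste_horiz hk
  have h4 : χ.inv ≫ (FEt.puncturedSpec B).ι = s := IsOpenImmersion.isoOfRangeEq_inv_fac _ _ _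
  exact PurityGlueLib.nonempty_iso_of_isPullback (h4 ▸ h3)

theorem purityHolds_descend (A : Type u) [CommRing A] [IsNoetherianRing A] [IsLocalRing A]
    (h : FEt.PurityHolds (AdicCompletion (maximalIdeal A) A)) : FEt.PurityHolds A := by
  let g : Spec (CommRingCat.of (AdicCompletion (maximalIdeal A) A)) ⟶ Spec (CommRingCat.of A) :=
    Spec.map (CommRingCat.ofHom (algebraMap A (AdicCompletion (maximalIdeal A) A)))
  haveI := CIRingLib.isNoetherianRing_cpl A
  have hpre : g ⁻¹ᵁ FEt.puncturedSpec A = FEt.puncturedSpec (AdicCompletion (maximalIdeal A) A) :=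
    ParaFLib.preimage_puncturedSpec A _ fun Q hQ hle => by
      rw [← AdicCompletion.maximalIdeal_eq_map] at hle
      exact le_antisymm (le_maximalIdeal hQ.ne_top) hle
  refine ⟨fun V => ?_⟩
  obtain ⟨Y', hY'⟩ := exists_extension_of_range h (pullback.snd (FEt.puncturedSpec A).ι g) (by
    rw [AlgebraicGeometry.Scheme.Pullback.range_snd, Scheme.Opens.range_ι, Scheme.Opens.range_ι]
    exact congrArg SetLike.coe hpre) ((FEt.restrict (pullback.fst (FEt.puncturedSpec A).ι g)).obj V)
  obtain ⟨Y, hY⟩ := (Groth.Agent.S0262.result A V).2 ⟨Y', hY'⟩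
  exact ⟨Y, hY⟩

/-- The step: divide by one nonzerodivisor. -/
theorem purityHolds_mod (A : Type u) [CommRing A] [IsNoetherianRing A] [IsLocalRing A] (hA : IsCM A) (f : A)
    (hf : f ∈ maximalIdeal A) [IsAdicComplete (Ideal.span {f}) A] (hreg : IsSMulRegular A f)
    (hdim : ((4 : ℕ) : WithBot ℕ∞) ≤ ringKrullDim A) (hA' : FEt.PurityHolds A)
    (hloc : ∀ (q : Ideal A) [q.IsPrime], (3 : WithBot ℕ∞) ≤ ringKrullDim (Localization.AtPrime q) →
      FEt.PurityHolds (Localization.AtPrime q))
    [IsLocalRing (A ⧸ Ideal.span {f})] : FEt.PurityHolds (A ⧸ Ideal.span {f}) := by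
  have hnzd : f ∈ nonZeroDivisors A := mem_nonZeroDivisors_iff_right.2 fun z hz =>
    hreg.right_eq_zero_of_smul (by rwa [smul_eq_mul, mul_comm])
  let eq : QuotSMulTop f A ≃ₗ[A] A ⧸ Ideal.span {f} :=
    Submodule.quotEquivOfEq _ _ (by rw [← Submodule.ideal_span_singleton_smul, smul_eq_mul, Ideal.mul_top])
  have hH : ∀ i, i < 3 → Subsingleton (LocCoh.H (maximalIdeal A) i (A ⧸ Ideal.span {f})) :=
    (LocCohLib.hasSeqIn_iff_subsingleton_H (I := maximalIdeal A) 3 (A ⧸ Ideal.span {f})).1
      (((four_le_depth hA 4 hdim).quotSMulTop hf hreg).congr eq)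
  haveI := hH 1 (by omega)
  haveI := hH 2 (by omega)
  refine Groth.Agent.S9476.result A f hf hnzd inferInstance inferInstance (fun P hP => ?_) hA'
  let q := P.comap (algebraMap A (Localization.Away f))
  have hfq : f ∉ q := fun h => hP.ne_top
    (Ideal.eq_top_of_isUnit_mem _ h (IsLocalization.Away.algebraMap_isUnit f))
  refine PurityGlueLib.purityHolds_of_ringEquiv
    (IsLocalization.localizationLocalizationAtPrimeIsoLocalization (Submonoid.powers f) P).toRingEquiv (hloc q ?_)
  rw [IsLocalization.AtPrime.ringKrullDim_eq_height q]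
  have hmax : ∀ Q : Ideal A, Q.IsPrime → q ≤ Q → f ∉ Q → Q = q := fun Q hQ hqQ hfQ => by
    have hdisj : Disjoint (Submonoid.powers f : Set A) (Q : Set A) :=
      Set.disjoint_left.2 fun x hx hxQ => by
        obtain ⟨n, rfl⟩ := hx
        exact hfQ (hQ.mem_of_pow_mem n hxQ)
    have h1 : P ≤ Q.map (algebraMap A (Localization.Away f)) := by
      rw [← IsLocalization.map_under (Submonoid.powers f) (Localization.Away f) P]
      exact Ideal.map_mono hqQ
    have h2 := IsLocalization.isPrime_of_isPrime_disjoint (Submonoid.powers f) (Localization.Away f) Q hQ hdisj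
    conv_lhs => rw [← IsLocalization.under_map_of_isPrime_disjoint (Submonoid.powers f) (Localization.Away f) hQ hdisj]
    exact congrArg (Ideal.comap _) (hP.eq_of_le h2.ne_top h1).symm
  have hq1 : ringKrullDim (A ⧸ q) ≤ 1 := by
    haveI : IsLocalRing (A ⧸ q) := IsLocalRing.of_surjective' _ Ideal.Quotient.mk_surjective
    rw [← IsLocalRing.maximalIdeal_height_eq_ringKrullDim]
    refine WithBot.coe_le_coe.2 (height_maximalIdeal_le_one (f := Ideal.Quotient.mk q f) ?_
      (fun e => hfq (Ideal.Quotient.eq_zero_iff_mem.1 e)) fun Q hQ hfQ => ?_)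
    · rw [← IsLocalRing.map_maximalIdeal_of_surjective _ Ideal.Quotient.mk_surjective]
      exact Ideal.mem_map_of_mem _ hf
    · have hqQ : q ≤ Q.comap (Ideal.Quotient.mk q) := fun x hx => Ideal.mem_comap.2 (by
        rw [Ideal.Quotient.eq_zero_iff_mem.2 hx]; exact zero_mem _)
      rw [← Ideal.map_comap_of_surjective _ Ideal.Quotient.mk_surjective Q,
        hmax _ (Ideal.comap_isPrime _ Q) hqQ hfQ, Ideal.map_quotient_self]
  have h1 := CatLib.ringKrullDim_quotient_add_height hA q
  by_contra h4
  rw [not_le] at h4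
  have h5 : (q.height : WithBot ℕ∞) ≤ ((2 : ℕ) : WithBot ℕ∞) := by
    have h7 : q.height < (3 : ℕ∞) := WithBot.coe_lt_coe.1 h4
    exact WithBot.coe_le_coe.2 (Order.le_of_lt_add_one (show q.height < (2 : ℕ∞) + 1 from h7))
  have h6 : ((4 : ℕ) : WithBot ℕ∞) ≤ ((3 : ℕ) : WithBot ℕ∞) :=
    (hdim.trans h1.ge).trans ((add_le_add hq1 h5).trans (by norm_num))
  norm_cast at h6

/-- Grothendieck: a complete intersection of dimension at least three. -/
theorem purityHolds_ci : ∀ (r : ℕ) (R : Type u) [CommRing R] [IsRegularLocalRing R] (rs : List R),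
    rs.length = r → IsRegular R rs → ∀ (A : Type u) [CommRing A] [IsLocalRing A] [IsNoetherianRing A],
      (A ≃+* R ⧸ Ideal.ofList rs) → (3 : WithBot ℕ∞) ≤ ringKrullDim A → FEt.PurityHolds A
  | 0, R, _, _, rs, hl, _, A, _, _, _, e, hdim => by
    rw [List.length_eq_zero_iff] at hl
    subst hl
    haveI : IsRegularLocalRing A := IsRegularLocalRing.of_ringEquiv
      (e.trans ((Ideal.quotEquivOfEq Ideal.ofList_nil).trans (RingEquiv.quotientBot R))).symm
    exact Groth.Agent.S0247.result A (le_trans (by norm_cast) hdim)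
  | r + 1, R, _, _, rs, hl, hreg, A, _, _, _, e, hdim => by
    haveI : IsLocalRing (R ⧸ Ideal.ofList rs) := e.isLocalRing
    -- completion
    haveI := CIRingLib.isNoetherianRing_cpl R
    haveI := CIRingLib.isNoetherianRing_cpl A
    haveI := CIRingLib.flat_cpl A
    haveI : IsRegularLocalRing (CIRingLib.Cpl R) := (Groth.Agent.S0548.result R).1 inferInstance
    let π : R →+* A := e.symm.toRingHom.comp (Ideal.Quotient.mk _)
    have hπ : Function.Surjective π := e.symm.surjective.comp Ideal.Quotient.mk_surjective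
    obtain ⟨σ, hσ, -, hker⟩ := CIRingLib.exists_cplMap π hπ
    have hkπ : RingHom.ker π = Ideal.ofList rs := by
      ext x; simp [π, RingHom.mem_ker, Ideal.Quotient.eq_zero_iff_mem]
    rw [hkπ, Ideal.map_ofList] at hker
    have hreg' : IsRegular (CIRingLib.Cpl R) (rs.map (algebraMap R (CIRingLib.Cpl R))) := by
      refine IsRegular.of_isWeaklyRegular_of_mem_maximalIdeal _ (fun x hx => ?_) hreg.toIsWeaklyRegular.of_flat
      obtain ⟨y, hy, rfl⟩ := List.mem_map.1 hx
      exact map_nonunit (algebraMap R (CIRingLib.Cpl R)) y (mem_maximalIdeal_of_isRegular hreg y hy)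
    refine purityHolds_descend A ?_
    have hdim' : (3 : WithBot ℕ∞) ≤ ringKrullDim (CIRingLib.Cpl A) := by
      rwa [CatLib.ringKrullDim_cpl]
    -- the complete case
    obtain ⟨rs', f, hsplit⟩ : ∃ rs' f, rs.map (algebraMap R (CIRingLib.Cpl R)) = rs' ++ [f] := by
      rcases List.eq_nil_or_concat (rs.map (algebraMap R (CIRingLib.Cpl R))) with h | ⟨l, b, h⟩
      · simp [List.map_eq_nil_iff] at h; subst h; simp at hl
      · exact ⟨l, b, by simpa using h⟩
    have hl' : rs'.length = r := by
      have := congrArg List.length hsplit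
      simp [hl] at this; omega
    rw [hsplit] at hreg' hker
    obtain ⟨hw1, hw2⟩ := (isWeaklyRegular_append_iff _ rs' [f]).1 hreg'.toIsWeaklyRegular
    have hmem := mem_maximalIdeal_of_isRegular hreg'
    have hreg1 : IsRegular (CIRingLib.Cpl R) rs' :=
      IsRegular.of_isWeaklyRegular_of_mem_maximalIdeal _ (fun x hx => hmem x (List.mem_append_left _ hx)) hw1
    let R' := CIRingLib.Cpl R
    let A' := R' ⧸ Ideal.ofList rs'
    let π' := Ideal.Quotient.mk (Ideal.ofList rs')
    haveI : Nontrivial A' := Ideal.Quotient.nontrivial_iff.2 fun h => (maximalIdeal.isMaximal R').ne_top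
      (top_le_iff.1 (h ▸ ofList_le_iff.2 fun x hx => hmem x (List.mem_append_left _ hx)))
    haveI : IsLocalRing A' := IsLocalRing.of_surjective' π' Ideal.Quotient.mk_surjective
    have hfreg : IsSMulRegular A' (π' f) := by
      have h1 := (isWeaklyRegular_singleton_iff _ _).1 hw2
      rw [isSMulRegular_quotient_iff_mem_of_smul_mem] at h1
      refine isSMulRegular_iff_right_eq_zero_of_smul.2 fun z hz => ?_
      obtain ⟨z, rfl⟩ := Ideal.Quotient.mk_surjective z
      rw [smul_eq_mul, ← map_mul, Ideal.Quotient.eq_zero_iff_mem] at hz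
      have h2 := h1 z (by simpa [Ideal.mul_top] using hz)
      exact Ideal.Quotient.eq_zero_iff_mem.2 (by simpa [Ideal.mul_top] using h2)
    have hfm : π' f ∈ maximalIdeal A' := by
      rw [← IsLocalRing.map_maximalIdeal_of_surjective π' Ideal.Quotient.mk_surjective]
      exact Ideal.mem_map_of_mem _ (hmem f (by simp))
    let eA : CIRingLib.Cpl A ≃+* A' ⧸ Ideal.span {π' f} :=
      (RingHom.quotientKerEquivOfSurjective hσ).symm.trans ((Ideal.quotEquivOfEq (by
        rw [hker, Ideal.ofList_append, Ideal.ofList_singleton])).trans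
        ((DoubleQuot.quotQuotEquivQuotSup (Ideal.ofList rs') (Ideal.span {f})).symm.trans
          (Ideal.quotEquivOfEq (by rw [Ideal.map_span, Set.image_singleton]))))
    haveI : IsLocalRing (A' ⧸ Ideal.span {π' f}) := eA.isLocalRing
    haveI := NormalLib.isAdicComplete_quotient_local (R := R') (Ideal.ofList rs')
    haveI : IsAdicComplete (Ideal.span {π' f}) A' := Groth.Agent.S0546.result A' _ (maximalIdeal A')
      ((Ideal.span_singleton_le_iff_mem _).2 hfm) (IsNoetherian.noetherian _) A'
    have hcm' : IsCM A' := isCM_quot _ R' rs' hl' (isCM_of_isRegularLocalRing R') hreg1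
    have hdimA' : ((4 : ℕ) : WithBot ℕ∞) ≤ ringKrullDim A' := by
      rw [← ringKrullDim_quotient_span_singleton_succ_eq_ringKrullDim hfreg hfm,
        ← ringKrullDim_eq_of_ringEquiv eA, show ((4 : ℕ) : WithBot ℕ∞) = 3 + 1 by norm_num]
      exact add_le_add hdim' le_rfl
    refine PurityGlueLib.purityHolds_of_ringEquiv eA.symm ?_
    refine purityHolds_mod A' hcm' (π' f) hfm hfreg hdimA'
      (purityHolds_ci r R' rs' hl' hreg1 A' (RingEquiv.refl _) (le_trans (by norm_cast) hdimA')) fun q _ hq4 => ?_
    let Q := q.comap π'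
    haveI : IsRegularLocalRing (Localization.AtPrime Q) := isRegularLocalRing_localization R' Q
    have hQ : ∀ x ∈ rs', x ∈ Q := fun x hx => Ideal.mem_comap.2 (by
      rw [show π' x = 0 from Ideal.Quotient.eq_zero_iff_mem.2 (Ideal.subset_span hx)]; exact zero_mem _)
    have hregQ : IsRegular (Localization.AtPrime Q) (rs'.map (algebraMap R' (Localization.AtPrime Q))) := by
      refine IsRegular.of_isWeaklyRegular_of_mem_maximalIdeal _ (fun x hx => ?_) hw1.of_flat
      obtain ⟨y, hy, rfl⟩ := List.mem_map.1 hx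
      exact (IsLocalization.AtPrime.to_map_mem_maximal_iff _ Q y).2 (hQ y hy)
    have hsq : Function.Surjective (Localization.localRingHom Q q π' rfl) :=
      RingHom.surjective_localRingHom_of_surjective π' Ideal.Quotient.mk_surjective q
    let eq : Localization.AtPrime q ≃+* Localization.AtPrime Q ⧸ Ideal.ofList (rs'.map (algebraMap R' (Localization.AtPrime Q))) :=
      (RingHom.quotientKerEquivOfSurjective hsq).symm.trans (Ideal.quotEquivOfEq (by
        rw [CIRingLib.ker_localRingHom π' Ideal.Quotient.mk_surjective q, Ideal.mk_ker, Ideal.map_ofList]))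
    haveI : IsNoetherianRing (Localization.AtPrime q) := IsLocalization.isNoetherianRing q.primeCompl _ inferInstance
    exact purityHolds_ci r (Localization.AtPrime Q) _ (by simpa using hl') hregQ (Localization.AtPrime q) eq hq4

end PurityCILib

end
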